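import Groth.Agent.Lib.Ideal.EffCartier
import Groth.Prelude.Def_W4c6modpairsegaMP
import Mathlib.AlgebraicGeometry.Morphisms.SchemeTheoreticallyDominant
import Mathlib.AlgebraicGeometry.Morphisms.Affine
import Mathlib.AlgebraicGeometry.Morphisms.ClosedImmersion
import Mathlib.AlgebraicGeometry.Morphisms.Immersion
import Mathlib.AlgebraicGeometry.Morphisms.Separated

/-!
# Modulus pairs: interiors, density, pullback of moduli
-/

universe u

open CategoryTheory CategoryTheory.Limits AlgebraicGeometry TopologicalSpace Opposite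
open Groth.Agent.Lib.Ideal

namespace Groth.Agent.Lib.ModPair

variable {X Y Z W : Scheme.{u}}

theorem mem_interior {I : X.IdealSheafData} {x : X} :
    x ∈ _root_.ModPair.interior I ↔ x ∉ I.support := Iff.rfl

theorem interior_comap (f : X ⟶ Y) (I : Y.IdealSheafData) :
    _root_.ModPair.interior (I.comap f) = f ⁻¹ᵁ _root_.ModPair.interior I := by
  ext x
  show x ∉ (I.comap f).support ↔ f x ∉ I.support
  rw [Scheme.IdealSheafData.support_comap]
  rfl

theorem interior_le {I J : X.IdealSheafData} (h : I ≤ J) :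
    _root_.ModPair.interior I ≤ _root_.ModPair.interior J :=
  fun _ hx hx' => hx (Scheme.IdealSheafData.support_antitone h hx')

theorem interior_le_of_isAmbient {I : X.IdealSheafData} {J : Y.IdealSheafData} {f : X ⟶ Y}
    (h : _root_.ModPair.IsAmbient I J f) :
    _root_.ModPair.interior I ≤ f ⁻¹ᵁ _root_.ModPair.interior J :=
  interior_comap f J ▸ interior_le h

theorem interior_of_isMinimal {I : X.IdealSheafData} {J : Y.IdealSheafData} {f : X ⟶ Y}
    (h : _root_.ModPair.IsMinimal I J f) :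
    _root_.ModPair.interior I = f ⁻¹ᵁ _root_.ModPair.interior J := by
  rw [h, interior_comap]

theorem interior_mul (I J : X.IdealSheafData) :
    _root_.ModPair.interior (I * J) = _root_.ModPair.interior I ⊓ _root_.ModPair.interior J := by
  ext x
  show x ∉ (I * J).support ↔ x ∉ I.support ∧ x ∉ J.support
  rw [Scheme.IdealSheafData.support_mul]
  exact not_or

theorem interior_top : _root_.ModPair.interior (⊤ : X.IdealSheafData) = ⊤ := by
  ext x
  exact iff_of_true (fun h => h) trivial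

/-- The ideal sheaf is locally generated by one section, everywhere. -/
def IsLP (I : X.IdealSheafData) : Prop :=
  ∀ x : X, ∃ U : X.affineOpens, x ∈ U.1 ∧ ∃ f : Γ(X, U.1), I.ideal U = Ideal.span {f}

theorem isLP_of_effCartier {I : X.IdealSheafData} (h : BlowUp.IsEffCartierIdeal I) : IsLP I :=
  fun x => let ⟨U, hxU, f, _, hf⟩ := h x; ⟨U, hxU, f, hf⟩

theorem IsLP.exists_gen {I : X.IdealSheafData} (hI : IsLP I) (x : X) {W : X.Opens} (hx : x ∈ W) :
    ∃ U : X.affineOpens, x ∈ U.1 ∧ U.1 ≤ W ∧ ∃ f : Γ(X, U.1), I.ideal U = Ideal.span {f} := by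
  obtain ⟨U, hxU, f, he⟩ := hI x
  obtain ⟨V, hV, hxV, hle⟩ := exists_isAffineOpen_mem_and_subset (show x ∈ U.1 ⊓ W from ⟨hxU, hx⟩)
  exact ⟨⟨V, hV⟩, hxV, fun y hy => (hle hy).2, _,
    EffCartier.ideal_eq_span_of_le (V := ⟨V, hV⟩) (fun y hy => (hle hy).1) he⟩

theorem IsLP.mul {I J : X.IdealSheafData} (hI : IsLP I) (hJ : IsLP J) : IsLP (I * J) := by
  intro x
  obtain ⟨U, hxU, f, he⟩ := hI x
  obtain ⟨V, hxV, hle, g, hg⟩ := hJ.exists_gen x hxU
  refine ⟨V, hxV, X.presheaf.map (homOfLE hle).op f * g, ?_⟩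
  rw [Scheme.IdealSheafData.ideal_mul, Pi.mul_apply, EffCartier.ideal_eq_span_of_le hle he, hg,
    Ideal.span_singleton_mul_span_singleton]

theorem IsLP.comap {I : Y.IdealSheafData} (hI : IsLP I) (f : X ⟶ Y) : IsLP (I.comap f) := by
  intro x
  obtain ⟨U, hxU, s, he⟩ := hI (f x)
  obtain ⟨V, hV, hxV, hle'⟩ := exists_isAffineOpen_mem_and_subset (show x ∈ f ⁻¹ᵁ U.1 from hxU)
  refine ⟨⟨V, hV⟩, hxV, f.appLE U.1 V (fun z hz => hle' hz) s, ?_⟩
  rw [Comap.ideal_comap f I U ⟨V, hV⟩ (fun z hz => hle' hz), he, Ideal.map_span,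
    Set.image_singleton]

theorem isAffineHom_interior {I : X.IdealSheafData} (hI : IsLP I) :
    IsAffineHom (_root_.ModPair.interior I).ι := by
  refine isAffineHom_of_forall_exists_isAffineOpen _ fun x => ?_
  obtain ⟨U, hxU, f, hf⟩ := hI x
  refine ⟨U, hxU, U.2, ?_⟩
  set C := _root_.ModPair.interior I
  have he : C.ι ⁻¹ᵁ U.1 = C.ι ⁻¹ᵁ X.basicOpen f := by
    ext z
    refine ⟨fun hz => ?_, fun hz => X.basicOpen_le f hz⟩
    have hzU : (C.ι z : X) ∈ U.1 := hz
    by_contra hzb
    have hzs : (C.ι z : X) ∈ I.support := by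
      rw [Scheme.IdealSheafData.mem_support_iff_of_mem hzU, Scheme.mem_zeroLocus_iff, hf]
      intro r hr hzr
      obtain ⟨c, rfl⟩ := Ideal.mem_span_singleton'.mp hr
      rw [Scheme.basicOpen_mul] at hzr
      exact hzb hzr.2
    exact z.2 hzs
  rw [he]
  refine (U.2.basicOpen f).preimage_of_isOpenImmersion C.ι fun z hz => ?_
  rw [Scheme.Opens.opensRange_ι]
  intro hzs
  exact (X.mem_zeroLocus_iff _ _).mp
    ((Scheme.IdealSheafData.mem_support_iff_of_mem (X.basicOpen_le f hz)).mp hzs) f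
    (hf ▸ Ideal.mem_span_singleton_self f) hz

theorem quasiCompact_interior {I : X.IdealSheafData} (hI : IsLP I) :
    QuasiCompact (_root_.ModPair.interior I).ι :=
  have := isAffineHom_interior hI
  inferInstance

/-- Away from the support a generator is a unit. -/
theorem isUnit_germ_gen {I : X.IdealSheafData} {U : X.affineOpens} {f : Γ(X, U.1)}
    (hf : I.ideal U = Ideal.span {f}) {y : X} (hy : y ∈ U.1) (hys : y ∉ I.support) :
    IsUnit (X.presheaf.germ U.1 y hy f) := by
  rw [← X.mem_basicOpen f y hy]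
  by_contra hb
  refine hys ?_
  rw [Scheme.IdealSheafData.mem_support_iff_of_mem hy, Scheme.mem_zeroLocus_iff, hf]
  intro r hr hzr
  obtain ⟨c, rfl⟩ := Ideal.mem_span_singleton'.mp hr
  rw [Scheme.basicOpen_mul] at hzr
  exact hb hzr.2

theorem ι_app_eq_zero (U : X.Opens) (W : X.Opens) (t : Γ(X, W))
    (h : ∀ x (hx : x ∈ W), x ∈ U → X.presheaf.germ W x hx t = 0) : U.ι.app W t = 0 := by
  refine U.toScheme.IsSheaf.section_ext fun z hz => ?_
  have h0 := h (U.ι z) hz z.2
  have h1 : U.toScheme.presheaf.germ (U.ι ⁻¹ᵁ W) z hz (U.ι.app W t) =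
      U.toScheme.presheaf.germ (U.ι ⁻¹ᵁ W) z hz 0 := by
    rw [map_zero]
    exact (Scheme.Hom.germ_stalkMap_apply U.ι W z hz t).symm.trans
      ((congrArg (U.ι.stalkMap z).hom h0).trans (map_zero _))
  obtain ⟨V, hzV, i₁, i₂, e⟩ := U.toScheme.presheaf.germ_eq z hz hz _ _ h1
  exact ⟨V, leOfHom i₁, hzV, e⟩

theorem eq_zero_of_dense (U : X.Opens) [IsSchemeTheoreticallyDominant U.ι] [QuasiCompact U.ι]
    {W : X.Opens} (t : Γ(X, W))
    (h : ∀ x (hx : x ∈ W), x ∈ U → X.presheaf.germ W x hx t = 0) : t = 0 :=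
  U.ι.app_injective W ((ι_app_eq_zero U W t h).trans (map_zero _).symm)

theorem std_of_forall_eq_zero (U : X.Opens) [QuasiCompact U.ι]
    (h : ∀ (W : X.Opens) (t : Γ(X, W)), IsAffineOpen W →
      (∀ x (hx : x ∈ W), x ∈ U → X.presheaf.germ W x hx t = 0) → t = 0) :
    IsSchemeTheoreticallyDominant U.ι := by
  refine ⟨le_bot_iff.mp fun V t ht => ?_⟩
  rw [Scheme.Hom.ker_apply, RingHom.mem_ker] at ht
  simp only [Scheme.IdealSheafData.ideal_bot, Pi.bot_apply, Ideal.mem_bot]
  refine h V.1 t V.2 fun x hx hxU => ?_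
  obtain ⟨z, rfl⟩ : ∃ z : U.toScheme, U.ι z = x := ⟨⟨x, hxU⟩, rfl⟩
  have := Scheme.Hom.germ_stalkMap_apply U.ι V.1 z hx t
  rw [ht, map_zero] at this
  exact (ConcreteCategory.bijective_of_isIso (U.ι.stalkMap z)).1 (this.trans (map_zero _).symm)

/-- The interior of a modulus pair is scheme-theoretically dense. -/
theorem std_interior {I : X.IdealSheafData} (hI : BlowUp.IsEffCartierIdeal I) :
    IsSchemeTheoreticallyDominant (_root_.ModPair.interior I).ι := by
  have := quasiCompact_interior (isLP_of_effCartier hI)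
  exact std_of_forall_eq_zero _ fun W t _ h =>
    EffCartier.eq_zero_of_germ_eq_zero_off hI t fun x hx hxs => h x hx hxs

/-- A locally principal ideal whose interior contains a dense open is effective Cartier. -/
theorem effCartier_of_dense {I : X.IdealSheafData} (hI : IsLP I) (U : X.Opens)
    (hU : U ≤ _root_.ModPair.interior I) [IsSchemeTheoreticallyDominant U.ι]
    [QuasiCompact U.ι] : BlowUp.IsEffCartierIdeal I := by
  intro x
  obtain ⟨V, hxV, g, hg⟩ := hI x
  refine ⟨V, hxV, g, EffCartier.mem_nonZeroDivisors_of_eq_zero fun b hb => ?_, hg⟩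
  refine eq_zero_of_dense U b fun y hy hyU => ?_
  have h' := congrArg (X.presheaf.germ V.1 y hy) hb
  rw [map_mul, map_zero] at h'
  exact (isUnit_germ_gen hg hy (hU hyU)).mul_right_eq_zero.mp h'

theorem effCartier_of_std {I : X.IdealSheafData} (hI : IsLP I)
    [IsSchemeTheoreticallyDominant (_root_.ModPair.interior I).ι] :
    BlowUp.IsEffCartierIdeal I :=
  have := quasiCompact_interior hI
  effCartier_of_dense hI _ le_rfl

theorem effCartier_of_le {I J : X.IdealSheafData} (hI : BlowUp.IsEffCartierIdeal I) (hJ : IsLP J)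
    (h : I ≤ J) : BlowUp.IsEffCartierIdeal J := by
  intro x
  obtain ⟨U, hxU, f, hf⟩ := hJ x
  obtain ⟨V, hxV, hle, g, hg, hgI⟩ := EffCartier.exists_gen hI x hxU
  have hfV := EffCartier.ideal_eq_span_of_le hle hf
  refine ⟨V, hxV, _, ?_, hfV⟩
  obtain ⟨k, hk⟩ := Ideal.mem_span_singleton'.mp
    (hfV ▸ h V (hgI ▸ Ideal.mem_span_singleton_self g))
  rw [← hk, mul_mem_nonZeroDivisors] at hg
  exact hg.2

theorem effCartier_comap_of_isAmbient {I : X.IdealSheafData} {J : Y.IdealSheafData} {f : X ⟶ Y}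
    (hI : BlowUp.IsEffCartierIdeal I) (hJ : IsLP J) (h : _root_.ModPair.IsAmbient I J f) :
    BlowUp.IsEffCartierIdeal (J.comap f) :=
  effCartier_of_le hI (hJ.comap f) h

/-- The morphism to the scheme-theoretic image is scheme-theoretically dominant. -/
theorem std_toImage (f : X ⟶ Y) [QuasiCompact f] : IsSchemeTheoreticallyDominant f.toImage := by
  refine ⟨?_⟩
  refine Scheme.IdealSheafData.ext_of_iSup_eq_top
    (fun U : Y.affineOpens => ⟨f.imageι ⁻¹ᵁ U.1, U.2.preimage f.imageι⟩) ?_ fun U => ?_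
  · rw [← Scheme.Hom.preimage_iSup, iSup_affineOpens_eq_top, Scheme.Hom.preimage_top]
  · rw [Scheme.Hom.ker_apply, Scheme.IdealSheafData.ideal_bot, Pi.bot_apply]
    exact (RingHom.injective_iff_ker_eq_bot _).mp (f.toImage_app_injective U)

/-- An open of the image containing the source is scheme-theoretically dense. -/
theorem std_image_open (f : X ⟶ Y) [QuasiCompact f] (U : f.image.Opens)
    (h : ∀ x, f.toImage x ∈ U) : IsSchemeTheoreticallyDominant U.ι := by
  have hr : Set.range f.toImage ⊆ Set.range U.ι := by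
    rw [Scheme.Opens.range_ι]; rintro _ ⟨x, rfl⟩; exact h x
  refine ⟨le_bot_iff.mp ?_⟩
  refine ((IsOpenImmersion.lift U.ι f.toImage hr).le_ker_comp U.ι).trans (le_of_eq ?_)
  rw [IsOpenImmersion.lift_fac]
  exact (std_toImage f).ker_eq_bot

theorem imageι_toImage_apply (f : X ⟶ Y) (x : X) : f.imageι (f.toImage x) = f x := by
  rw [← Scheme.Hom.comp_apply, Scheme.Hom.toImage_imageι]

/-- On the scheme-theoretic image of a morphism into the interior, the modulus is effective
Cartier. -/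
theorem effCartier_comap_imageι (f : X ⟶ Y) [QuasiCompact f] {I : Y.IdealSheafData} (hI : IsLP I)
    (h : ∀ x, f x ∈ _root_.ModPair.interior I) :
    BlowUp.IsEffCartierIdeal (I.comap f.imageι) := by
  have : IsSchemeTheoreticallyDominant (_root_.ModPair.interior (I.comap f.imageι)).ι := by
    refine std_image_open f _ fun x => ?_
    rw [interior_comap]
    show f.imageι (f.toImage x) ∈ _root_.ModPair.interior I
    rw [imageι_toImage_apply]
    exact h x
  exact effCartier_of_std (hI.comap _)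

/-- The scheme-theoretic image of an open immersion agrees with the open over the open. -/
theorem isIso_imageι_restrict (U : Y.Opens) [QuasiCompact U.ι] : IsIso (U.ι.imageι ∣_ U) := by
  have hr : Set.range U.ι.toImage ⊆ Set.range (U.ι.imageι ⁻¹ᵁ U).ι := by
    rw [Scheme.Opens.range_ι]
    rintro _ ⟨x, rfl⟩
    show U.ι.imageι (U.ι.toImage x) ∈ U
    rw [imageι_toImage_apply]
    exact x.2
  let k := IsOpenImmersion.lift (U.ι.imageι ⁻¹ᵁ U).ι U.ι.toImage hr
  have hk : k ≫ (U.ι.imageι ∣_ U) = 𝟙 _ := by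
    rw [← cancel_mono U.ι, Category.assoc, morphismRestrict_ι, IsOpenImmersion.lift_fac_assoc,
      Scheme.Hom.toImage_imageι, Category.id_comp]
  have : IsSplitEpi (U.ι.imageι ∣_ U) := IsSplitEpi.mk' ⟨k, hk⟩
  have : IsClosedImmersion (U.ι.imageι ∣_ U) :=
    MorphismProperty.of_isPullback (isPullback_morphismRestrict U.ι.imageι U).flip inferInstance
  exact isIso_of_mono_of_isSplitEpi _

/-- Two morphisms from a modulus pair agreeing on the interior agree, if the target is separated
over a base on which they agree. -/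
theorem hom_ext_interior {I : X.IdealSheafData} (hI : BlowUp.IsEffCartierIdeal I) {f g : X ⟶ Y}
    (s : Y ⟶ Z) [IsSeparated s] (h : f ≫ s = g ≫ s)
    (hd : (_root_.ModPair.interior I).ι ≫ f = (_root_.ModPair.interior I).ι ≫ g) : f = g := by
  have := std_interior hI
  let X' : Over Z := Over.mk (f ≫ s)
  let Y' : Over Z := Over.mk s
  let f' : X' ⟶ Y' := Over.homMk f
  let g' : X' ⟶ Y' := Over.homMk g (h.symm)
  let d' : Over.mk ((_root_.ModPair.interior I).ι ≫ f ≫ s) ⟶ X' :=
    Over.homMk (_root_.ModPair.interior I).ι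
  have : IsSeparated Y'.hom := ‹_›
  have hl : (equalizer.lift d' (by ext1; exact hd)).left ≫ (equalizer.ι f' g').left =
      (_root_.ModPair.interior I).ι := by
    rw [← Over.comp_left, equalizer.lift_ι]; rfl
  have hk : (equalizer.ι f' g').left.ker = ⊥ :=
    le_bot_iff.mp (((equalizer.lift d' (by ext1; exact hd)).left.le_ker_comp _).trans
      (by rw [hl, Scheme.Hom.ker_eq_bot]))
  have : IsIso (equalizer.ι f' g').left := IsClosedImmersion.isIso_iff_ker_eq_bot.mpr hk
  rw [← cancel_epi (equalizer.ι f' g').left]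
  exact congr($(equalizer.condition f' g').left)

/-- Base change of a morphism which is an isomorphism over an open. -/
theorem isIso_restrict_of_isPullback {P X T S : Scheme.{u}} {a : P ⟶ X} {b : P ⟶ T} {s : X ⟶ S}
    {g : T ⟶ S} (h : IsPullback a b s g) (U : S.Opens) [IsIso (s ∣_ U)] {V : T.Opens}
    (hV : V ≤ g ⁻¹ᵁ U) : IsIso (b ∣_ V) := by
  have h₁ := (isPullback_morphismRestrict b V).flip.paste_horiz h
  have hg : g.resLE U V hV ≫ U.ι = V.ι ≫ g := Scheme.Hom.resLE_comp_ι _ _
  rw [← hg] at h₁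
  have h₂ := (isPullback_morphismRestrict s U).flip
  let e : (b ⁻¹ᵁ V).toScheme ⟶ (s ⁻¹ᵁ U).toScheme :=
    h₂.lift ((b ⁻¹ᵁ V).ι ≫ a) ((b ∣_ V) ≫ g.resLE U V hV) (by
      rw [Category.assoc, Category.assoc]; simpa using h₁.w)
  have h₃ : IsPullback ((e ≫ (s ⁻¹ᵁ U).ι)) (b ∣_ V) s (g.resLE U V hV ≫ U.ι) := by
    rw [h₂.lift_fst]
    exact h₁
  have h₄ : IsPullback e (b ∣_ V) (s ∣_ U) (g.resLE U V hV) :=
    h₃.of_right (h₂.lift_snd _ _ _) h₂
  exact (MorphismProperty.isomorphisms Scheme).of_isPullback h₄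
    (MorphismProperty.isomorphisms.infer_property _)

end Groth.Agent.Lib.ModPair
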