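import Groth.Agent.Lib.ModPair.MProd
import Mathlib.CategoryTheory.Localization.CalculusOfFractions

/-!
# The category of modulus pairs and admissible blow-ups
-/

universe u

open CategoryTheory CategoryTheory.Limits AlgebraicGeometry TopologicalSpace Opposite
open Groth.Agent.Lib.Ideal

namespace Groth.Agent.Lib.ModPair

open _root_.ModPair (Pair)

theorem isAdmBlowup_id {X : Scheme.{u}} (I : X.IdealSheafData) :
    _root_.ModPair.IsAdmBlowup I I (𝟙 X) :=
  ⟨(Scheme.IdealSheafData.comap_id I).symm, inferInstance, inferInstance⟩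

theorem isAdmBlowup_comp {X Y Z : Scheme.{u}} {I : X.IdealSheafData} {J : Y.IdealSheafData}
    {K : Z.IdealSheafData} {f : X ⟶ Y} {g : Y ⟶ Z} (hf : _root_.ModPair.IsAdmBlowup I J f)
    (hg : _root_.ModPair.IsAdmBlowup J K g) : _root_.ModPair.IsAdmBlowup I K (f ≫ g) := by
  obtain ⟨hf₁, hf₂, hf₃⟩ := hf
  obtain ⟨hg₁, hg₂, hg₃⟩ := hg
  refine ⟨?_, inferInstance, ?_⟩
  · show I = K.comap (f ≫ g)
    rw [Scheme.IdealSheafData.comap_comp, ← hg₁]
    exact hf₁
  · rw [morphismRestrict_comp]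
    rw [interior_of_isMinimal hg₁] at hf₃
    exact IsIso.comp_isIso' hf₃ hg₃

instance isMultiplicative_admBlowup : Pair.admBlowup.{u}.IsMultiplicative where
  id_mem P := isAdmBlowup_id P.mod
  comp_mem _ _ hf hg := isAdmBlowup_comp hf hg

theorem admBlowup_of_isIso {P Q : Pair.{u}} (f : P ⟶ Q) [IsIso f] : Pair.admBlowup f := by
  have : IsIso f.hom := inferInstanceAs (IsIso (Pair.forget.map f))
  refine ⟨le_antisymm f.cond ?_, inferInstance, inferInstance⟩
  have h := Scheme.IdealSheafData.comap_mono f.hom (inv f).cond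
  have e : f.hom ≫ (inv f).hom = 𝟙 _ := congrArg _root_.ModPair.Pair.Hom.hom (IsIso.hom_inv_id f)
  change Q.mod.comap f.hom ≤ (P.mod.comap (inv f).hom).comap f.hom at h
  rwa [← Scheme.IdealSheafData.comap_comp, e, Scheme.IdealSheafData.comap_id] at h

/-- Admissible blow-ups are monomorphisms of modulus pairs. -/
theorem mono_of_admBlowup {P Q : Pair.{u}} (s : P ⟶ Q) (hs : Pair.admBlowup s) : Mono s := by
  refine ⟨fun {W} a b h => Pair.Hom.ext ?_⟩
  obtain ⟨hmin, hprop, hiso⟩ := hs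
  have hh : a.hom ≫ s.hom = b.hom ≫ s.hom := congrArg _root_.ModPair.Pair.Hom.hom h
  refine hom_ext_interior W.isEffCartier s.hom hh ?_
  set U := s.hom ⁻¹ᵁ _root_.ModPair.interior Q.mod
  have hr : ∀ c : W ⟶ P, Set.range ((_root_.ModPair.interior W.mod).ι ≫ c.hom) ⊆ Set.range U.ι := by
    intro c
    rw [Scheme.Opens.range_ι]
    rintro _ ⟨x, rfl⟩
    have h0 := interior_le_of_isAmbient c.cond x.2
    rw [interior_of_isMinimal hmin] at h0
    exact h0
  rw [← IsOpenImmersion.lift_fac U.ι _ (hr a), ← IsOpenImmersion.lift_fac U.ι _ (hr b)]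
  congr 1
  rw [← cancel_mono (s.hom ∣_ _root_.ModPair.interior Q.mod),
    ← cancel_mono (_root_.ModPair.interior Q.mod).ι, Category.assoc, Category.assoc,
    morphismRestrict_ι, IsOpenImmersion.lift_fac_assoc, IsOpenImmersion.lift_fac_assoc,
    Category.assoc, Category.assoc, hh]

theorem exists_ore {S T X : Pair.{u}} (g : T ⟶ S) (s : X ⟶ S) (hs : Pair.admBlowup s) :
    ∃ (Y : Pair.{u}) (q : Y ⟶ T) (r : Y ⟶ X), Pair.admBlowup q ∧ r ≫ s = q ≫ g := by
  obtain ⟨hY, hq, hr⟩ := isAdmBlowup_mprod S.isEffCartier T.isEffCartier g.hom g.cond s.hom hs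
  refine ⟨⟨_, _, hY⟩, ⟨_, le_of_eq hq.1⟩, ⟨_, hr⟩, hq, Pair.Hom.ext ?_⟩
  show (_ ≫ pullback.fst s.hom g.hom) ≫ s.hom = (_ ≫ pullback.snd s.hom g.hom) ≫ g.hom
  rw [Category.assoc, Category.assoc, pullback.condition]

instance hasRightCalculusOfFractions_admBlowup :
    Pair.admBlowup.{u}.HasRightCalculusOfFractions where
  exists_rightFraction X Y φ := by
    obtain ⟨Z, q, r, hq, h⟩ := exists_ore φ.f φ.s φ.hs
    exact ⟨⟨q, hq, r⟩, h.symm⟩
  ext {X Y Y'} f₁ f₂ s hs h := by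
    have := mono_of_admBlowup s hs
    exact ⟨X, 𝟙 X, isAdmBlowup_id X.mod, by rw [(cancel_mono s).mp h]⟩

end Groth.Agent.Lib.ModPair
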