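import Groth.Agent.Lib.ModPair.Category
import Mathlib.AlgebraicGeometry.Limits
import Mathlib.CategoryTheory.Limits.Preserves.Shapes.Products

/-!
# Coproducts of modulus pairs, and locality of admissible blow-ups
-/

universe u w

open CategoryTheory CategoryTheory.Limits AlgebraicGeometry TopologicalSpace Opposite
open Groth.Agent.Lib.Ideal

namespace Groth.Agent.Lib.ModPair

open _root_.ModPair (Pair)

variable {ι : Type w} {X : Scheme.{u}} {U : ι → Scheme.{u}} (g : ∀ a, U a ⟶ X)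
  [∀ a, IsOpenImmersion (g a)]

theorem effCartier_of_cover (hg : ∀ x, ∃ a, x ∈ Set.range (g a)) {I : X.IdealSheafData}
    (h : ∀ a, BlowUp.IsEffCartierIdeal (I.comap (g a))) : BlowUp.IsEffCartierIdeal I := by
  intro x
  obtain ⟨a, y, rfl⟩ := hg x
  obtain ⟨V, hyV, f, hf, hI⟩ := h a y
  let e := ((g a).appIso V.1).symm.commRingCatIsoToRingEquiv
  refine ⟨⟨g a ''ᵁ V.1, V.2.image_of_isOpenImmersion _⟩, ⟨y, hyV, rfl⟩, e f,
    EffCartier.mem_nonZeroDivisors_of_eq_zero fun b hb => ?_, ?_⟩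
  · have := congrArg e.symm hb
    rw [map_mul, RingEquiv.symm_apply_apply, map_zero] at this
    have := (mul_left_mem_nonZeroDivisors_eq_zero_iff hf).1 this
    simpa using this
  · rw [Scheme.IdealSheafData.ideal_comap_of_isOpenImmersion] at hI
    have := congrArg (Ideal.map e.toRingHom) hI
    rw [Ideal.map_span, Set.image_singleton] at this
    refine Eq.trans ?_ this
    exact (Ideal.map_comap_of_surjective e.toRingHom e.surjective _).symm

theorem le_of_cover (hg : ∀ x, ∃ a, x ∈ Set.range (g a)) {I J : X.IdealSheafData}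
    (h : ∀ a, I.comap (g a) ≤ J.comap (g a)) : I ≤ J := by
  choose a y hy using hg
  have hV : ∀ x, ∃ V : (U (a x)).affineOpens, y x ∈ V.1 := fun x => by
    obtain ⟨V, hV, hyV, -⟩ := exists_isAffineOpen_mem_and_subset
      (show y x ∈ (⊤ : (U (a x)).Opens) from trivial)
    exact ⟨⟨V, hV⟩, hyV⟩
  choose V hyV using hV
  refine Scheme.IdealSheafData.le_of_iSup_eq_top
    (fun x => ⟨g (a x) ''ᵁ (V x).1, (V x).2.image_of_isOpenImmersion _⟩)
    (eq_top_iff.2 fun x _ => Opens.mem_iSup.2 ⟨x, y x, hyV x, hy x⟩) fun x => ?_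
  have h' := h (a x) (V x)
  rw [Scheme.IdealSheafData.ideal_comap_of_isOpenImmersion,
    Scheme.IdealSheafData.ideal_comap_of_isOpenImmersion] at h'
  exact (Ideal.comap_le_comap_iff_of_surjective _
    ((g (a x)).appIso (V x).1).symm.commRingCatIsoToRingEquiv.surjective _ _).1 h'

theorem eq_of_cover (hg : ∀ x, ∃ a, x ∈ Set.range (g a)) {I J : X.IdealSheafData}
    (h : ∀ a, I.comap (g a) = J.comap (g a)) : I = J :=
  le_antisymm (le_of_cover g hg fun a => (h a).le) (le_of_cover g hg fun a => (h a).ge)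

/-- An open immersion whose range contains `V` restricts to an isomorphism over `V`. -/
theorem isIso_restrict_of_le_range {W Z : Scheme.{u}} (j : W ⟶ Z) [IsOpenImmersion j] (V : Z.Opens)
    (h : (V : Set Z) ⊆ Set.range j) : IsIso (j ∣_ V) := by
  have : Epi (j ∣_ V).base := by
    rw [TopCat.epi_iff_surjective]
    intro v
    obtain ⟨w, hw⟩ := h v.2
    exact ⟨⟨w, show j w ∈ V from hw.symm ▸ v.2⟩, Subtype.ext ((morphismRestrict_base_coe j V _).trans hw)⟩
  exact IsOpenImmersion.isIso _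

/-- Transfer of a property of restrictions along open immersions. -/
theorem restrict_of_square (P : MorphismProperty Scheme.{u}) [P.RespectsIso] {W Z W' Z' : Scheme.{u}}
    (f : W ⟶ Z) (j : W' ⟶ W) (k : Z' ⟶ Z) (f' : W' ⟶ Z') [IsOpenImmersion j] [IsOpenImmersion k]
    (w : j ≫ f = f' ≫ k) (V : Z.Opens) (hV : (V : Set Z) ⊆ Set.range k)
    (hW : (f ⁻¹ᵁ V : Set W) ⊆ Set.range j) (h : P (f' ∣_ (k ⁻¹ᵁ V))) : P (f ∣_ V) := by
  have h1 := isIso_restrict_of_le_range j _ hW
  have h2 := isIso_restrict_of_le_range k V hV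
  have h3 : P ((j ≫ f) ∣_ V) := by
    rw [w, morphismRestrict_comp]
    exact (@MorphismProperty.cancel_right_of_respectsIso _ _ P _ _ _ _ (f' ∣_ (k ⁻¹ᵁ V)) (k ∣_ V) h2).2 h
  rw [morphismRestrict_comp] at h3
  exact (@MorphismProperty.cancel_left_of_respectsIso _ _ P _ _ _ _ (j ∣_ (f ⁻¹ᵁ V)) (f ∣_ V) h1).1 h3

theorem isIso_restrict_of_le {W Z : Scheme.{u}} (f : W ⟶ Z) {V V' : Z.Opens} (h : V' ≤ V)
    [IsIso (f ∣_ V)] : IsIso (f ∣_ V') :=
  isIso_restrict_of_isPullback (IsPullback.of_horiz_isIso (fst := 𝟙 W) (snd := f) (f := f)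
    (g := 𝟙 Z) ⟨by simp⟩) V h

theorem prop_restrict_of_cover (P : MorphismProperty Scheme.{u}) [IsZariskiLocalAtTarget P]
    {W Z : Scheme.{u}} (f : W ⟶ Z) (V₀ : Z.Opens)
    (h : ∀ z ∈ V₀, ∃ V : Z.Opens, z ∈ V ∧ V ≤ V₀ ∧ P (f ∣_ V)) : P (f ∣_ V₀) := by
  choose V hz hle hV using h
  refine IsZariskiLocalAtTarget.of_iSup_eq_top (fun z : V₀ => V₀.ι ⁻¹ᵁ V z.1 z.2)
    (eq_top_iff.2 fun z _ => Opens.mem_iSup.2 ⟨z, hz z.1 z.2⟩) fun z => ?_
  refine (P.arrow_mk_iso_iff (morphismRestrictRestrict f V₀ _)).2 ?_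
  have e : V₀.ι ''ᵁ (V₀.ι ⁻¹ᵁ V z.1 z.2) = V z.1 z.2 := by
    rw [Scheme.Hom.image_preimage_eq_opensRange_inf, Scheme.Opens.opensRange_ι]
    exact inf_eq_right.2 (hle z.1 z.2)
  rw [e]
  exact hV z.1 z.2

/-- Admissible blow-ups are local on the target. -/
theorem isAdmBlowup_of_cover {W : Scheme.{u}} {I : W.IdealSheafData} {J : X.IdealSheafData}
    {f : W ⟶ X} (hg : ∀ x, ∃ a, x ∈ Set.range (g a)) {W' : ι → Scheme.{u}} (j : ∀ a, W' a ⟶ W)
    [∀ a, IsOpenImmersion (j a)] (f' : ∀ a, W' a ⟶ U a) (w : ∀ a, j a ≫ f = f' a ≫ g a)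
    (hj : ∀ a, f ⁻¹' Set.range (g a) ⊆ Set.range (j a))
    (h : ∀ a, _root_.ModPair.IsAdmBlowup (I.comap (j a)) (J.comap (g a)) (f' a)) :
    _root_.ModPair.IsAdmBlowup I J f := by
  refine ⟨?_, ?_, ?_⟩
  · refine eq_of_cover j (fun x => ?_) fun a => ?_
    · obtain ⟨a, ha⟩ := hg (f x)
      exact ⟨a, hj a ha⟩
    · rw [(h a).1, ← Scheme.IdealSheafData.comap_comp, ← Scheme.IdealSheafData.comap_comp, w]
  · refine IsZariskiLocalAtTarget.of_iSup_eq_top (P := @IsProper) (fun a => (g a).opensRange)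
      (eq_top_iff.2 fun x _ => Opens.mem_iSup.2 (hg x)) fun a => ?_
    refine restrict_of_square @IsProper f (j a) (g a) (f' a) (w a) _ subset_rfl (hj a) ?_
    have := (h a).2.1
    infer_instance
  · refine prop_restrict_of_cover (MorphismProperty.isomorphisms Scheme.{u}) f _ fun x hx => ?_
    obtain ⟨a, ha⟩ := hg x
    refine ⟨(g a).opensRange ⊓ _root_.ModPair.interior J, ⟨ha, hx⟩, inf_le_right, ?_⟩
    refine restrict_of_square (MorphismProperty.isomorphisms Scheme.{u}) f (j a) (g a) (f' a) (w a)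
      _ (fun y hy => hy.1) (fun y hy => hj a hy.1) ?_
    have := (h a).2.2
    exact isIso_restrict_of_le (f' a) (V := _root_.ModPair.interior (J.comap (g a)))
      (by rw [interior_comap]; exact fun y hy => hy.2)

end Groth.Agent.Lib.ModPair

namespace Groth.Agent.Lib.ModPair

open _root_.ModPair (Pair)

variable {σ : Type u}

theorem exists_sigma_mod (P : σ → Pair.{u}) :
    ∃ M : (∐ fun a => (P a).total).IdealSheafData,
      ∀ a, M.comap (Sigma.ι (fun a => (P a).total) a) = (P a).mod := by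
  let T := fun a => (P a).total
  let Z := fun a => (P a).mod.subscheme
  let s : ∐ Z ⟶ ∐ T := Limits.Sigma.map fun a => (P a).mod.subschemeι
  have hs : ∀ a, Sigma.ι Z a ≫ s = (P a).mod.subschemeι ≫ Sigma.ι T a := fun a => Sigma.ι_map _ a
  have hp : ∀ a, IsPullback ((P a).mod.subschemeι) (Sigma.ι Z a) (Sigma.ι T a) s := fun a => by
    refine IsOpenImmersion.isPullback _ _ _ _ (hs a) ?_
    refine le_antisymm ?_ ?_
    · intro z hz
      obtain ⟨⟨b, y⟩, rfl⟩ := (sigmaMk Z).surjective z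
      obtain ⟨t, ht⟩ := hz
      rw [sigmaMk_mk] at ht ⊢
      rw [← Scheme.Hom.comp_apply, hs, Scheme.Hom.comp_apply] at ht
      obtain ⟨rfl, -⟩ := Sigma.mk.inj ((sigmaι_eq_iff _ _ _ _ _).1 ht)
      exact ⟨y, rfl⟩
    · rintro _ ⟨z, rfl⟩
      exact ⟨(P a).mod.subschemeι z, by rw [← Scheme.Hom.comp_apply, ← hs, Scheme.Hom.comp_apply]⟩
  have : IsClosedImmersion s := by
    refine IsZariskiLocalAtTarget.of_openCover (P := @IsClosedImmersion) (sigmaOpenCover T)
      fun a => ?_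
    change IsClosedImmersion (pullback.snd s (Sigma.ι T a))
    rw [← (hp a).flip.isoPullback_inv_snd]
    infer_instance
  refine ⟨s.ker, fun a => ?_⟩
  rw [← Scheme.IdealSheafData.ker_fst_of_isClosedImmersion s (Sigma.ι T a),
    ← (hp a).isoPullback_inv_fst, Scheme.Hom.ker_comp_of_isIso]
  exact Scheme.IdealSheafData.ker_subschemeι _

theorem sigma_cover (T : σ → Scheme.{u}) (x : (∐ T : Scheme.{u})) :
    ∃ a, x ∈ Set.range (Sigma.ι T a) := by
  obtain ⟨⟨a, y⟩, rfl⟩ := (sigmaMk T).surjective x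
  exact ⟨a, y, (sigmaMk_mk T a y).symm⟩

noncomputable def sigmaPair (P : σ → Pair.{u}) : Pair.{u} :=
  ⟨∐ fun a => (P a).total, (exists_sigma_mod P).choose,
    effCartier_of_cover (Sigma.ι fun a => (P a).total) (sigma_cover _) fun a => by
      rw [(exists_sigma_mod P).choose_spec a]; exact (P a).isEffCartier⟩

theorem sigmaPair_mod (P : σ → Pair.{u}) (a : σ) :
    (sigmaPair P).mod.comap (Sigma.ι (fun a => (P a).total) a) = (P a).mod :=
  (exists_sigma_mod P).choose_spec a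

/-- The coproduct cofan of modulus pairs. -/
noncomputable def sigmaCofan (P : σ → Pair.{u}) : Cofan P :=
  Cofan.mk (sigmaPair P) fun a =>
    ⟨Sigma.ι (fun a => (P a).total) a, (sigmaPair_mod P a).ge⟩

noncomputable def isColimitSigmaCofan (P : σ → Pair.{u}) : IsColimit (sigmaCofan P) :=
  Cofan.IsColimit.mk _
    (fun c => ⟨Sigma.desc fun a => (c.inj a).hom,
      le_of_cover (Sigma.ι fun a => (P a).total) (sigma_cover _) fun a => by
        refine (sigmaPair_mod P a).trans_le (le_of_le_of_eq ?_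
          (Scheme.IdealSheafData.comap_comp c.pt.mod (Sigma.ι (fun a => (P a).total) a) _))
        rw [Sigma.ι_desc]
        exact (c.inj a).cond⟩)
    (fun c a => Pair.Hom.ext (Sigma.ι_desc _ a))
    (fun c m hm => Pair.Hom.ext (Sigma.hom_ext _ _ fun a => by
      rw [Sigma.ι_desc]; exact congrArg Pair.Hom.hom (hm a)))

theorem hasColimitsOfShape_pair : HasColimitsOfShape (Discrete σ) Pair.{u} :=
  ⟨fun K =>
    have : HasColimit (Discrete.functor (K.obj ∘ Discrete.mk)) :=
      HasColimit.mk ⟨_, isColimitSigmaCofan fun a => K.obj ⟨a⟩⟩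
    hasColimit_of_iso Discrete.natIsoFunctor⟩

theorem preservesColimitsOfShape_forget :
    PreservesColimitsOfShape (Discrete σ) Pair.forget.{u} := by
  refine ⟨fun {K} => ?_⟩
  let P : σ → Pair.{u} := fun a => K.obj ⟨a⟩
  have : PreservesColimit (Discrete.functor (K.obj ∘ Discrete.mk)) Pair.forget.{u} :=
    preservesColimit_of_preserves_colimit_cocone (isColimitSigmaCofan P)
      ((isColimitMapCoconeCofanMkEquiv _ _ _).symm (coproductIsCoproduct fun a => (P a).total))
  exact preservesColimit_of_iso_diagram _ (Discrete.natIsoFunctor (F := K)).symm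

end Groth.Agent.Lib.ModPair
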