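import Groth.Agent.Lib.ModPair.MProd
import Groth.Agent.Lib.Ideal.BlowUp
import Groth.Agent.Lib.RelDiv.Diff
import Groth.Agent.Lib.BlowUpExists.Exists

/-!
# Ambient products of modulus pairs
-/

universe u

open CategoryTheory CategoryTheory.Limits AlgebraicGeometry TopologicalSpace Opposite
open Groth.Agent.Lib.Ideal

namespace Groth.Agent.Lib.ModPair

theorem exists_isAmbProd {S T X : Scheme.{u}} (f : X ⟶ S) (g : T ⟶ S) (I : X.IdealSheafData)
    (J : T.IdealSheafData) :
    ∃ (Y : Scheme.{u}) (π : Y ⟶ _root_.ModPair.mprod f g I J) (K : Y.IdealSheafData),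
      _root_.ModPair.IsAmbProd f g I J π K := by
  obtain ⟨Y, π, hπ⟩ := BlowUpExists.exists_isBlowUp _ (_root_.ModPair.prodCentre f g I J)
  set A := (I.comap (_root_.ModPair.mprodι f g I J ≫ pullback.fst f g)).comap π
  set B := (J.comap (_root_.ModPair.mprodι f g I J ≫ pullback.snd f g)).comap π
  have hle : A * B ≤ (_root_.ModPair.prodCentre f g I J).comap π := by
    show A * B ≤ (_ ⊔ _ : Scheme.IdealSheafData _).comap π
    rw [Scheme.IdealSheafData.comap_sup]
    refine le_trans (fun U => ?_) (le_sup_left : A ≤ A ⊔ B)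
    rw [Scheme.IdealSheafData.ideal_mul, Pi.mul_apply]
    exact Ideal.mul_le_left
  refine ⟨Y, π, RelDiv.Diff.colon (A * B) _ (RelDiv.Diff.fg_of_isEffCartier hπ.1), hπ, ?_⟩
  rw [mul_comm]
  exact RelDiv.Diff.mul_colon hπ.1 hle

end Groth.Agent.Lib.ModPair
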