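import Mathlib.CategoryTheory.Localization.CalculusOfFractions
import Mathlib.CategoryTheory.Limits.Shapes.Pullback.IsPullback.Basic

/-!
# Pullback squares in a localization by a right calculus of fractions
-/

universe v u v' u'

open CategoryTheory CategoryTheory.Limits

namespace Groth.Agent.Lib.ModPair

variable {C : Type u} [Category.{v} C] {D : Type u'} [Category.{v'} D] (L : C ⥤ D)
  (W : MorphismProperty C) [L.IsLocalization W] [W.HasRightCalculusOfFractions]

theorem exists_map_comp_eq {V X : C} (φ : L.obj V ⟶ L.obj X) :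
    ∃ (V' : C) (s : V' ⟶ V) (_ : W s) (a : V' ⟶ X), L.map s ≫ φ = L.map a := by
  obtain ⟨ψ, rfl⟩ := Localization.exists_rightFraction L W φ
  exact ⟨_, ψ.s, ψ.hs, ψ.f, ψ.map_s_comp_map L (Localization.inverts L W)⟩

theorem exists_common {V X Y : C} (φ : L.obj V ⟶ L.obj X) (φ' : L.obj V ⟶ L.obj Y) :
    ∃ (V' : C) (s : V' ⟶ V) (_ : W s) (a : V' ⟶ X) (b : V' ⟶ Y),
      L.map s ≫ φ = L.map a ∧ L.map s ≫ φ' = L.map b := by
  obtain ⟨V₁, s₁, hs₁, a, ha⟩ := exists_map_comp_eq L W φ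
  obtain ⟨V₂, s₂, hs₂, b, hb⟩ := exists_map_comp_eq L W (L.map s₁ ≫ φ')
  refine ⟨V₂, s₂ ≫ s₁, W.comp_mem _ _ hs₂ hs₁, s₂ ≫ a, b, ?_, ?_⟩
  · rw [L.map_comp, L.map_comp, Category.assoc, ha]
  · rw [L.map_comp, Category.assoc, hb]

/-- A square which is "a pullback up to denominators" becomes a pullback in the localization. -/
theorem isPullback_map {Y T X P : C} {q : Y ⟶ T} {r : Y ⟶ X} {g : T ⟶ P} {f : X ⟶ P}
    (w : q ≫ g = r ≫ f)
    (hlift : ∀ (V : C) (a : V ⟶ T) (b : V ⟶ X), a ≫ g = b ≫ f →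
      ∃ (V' : C) (s : V' ⟶ V) (_ : W s) (c : V' ⟶ Y), c ≫ q = s ≫ a ∧ c ≫ r = s ≫ b)
    (huniq : ∀ (V : C) (c c' : V ⟶ Y), c ≫ q = c' ≫ q → c ≫ r = c' ≫ r → c = c') :
    IsPullback (L.map q) (L.map r) (L.map g) (L.map f) := by
  have hiso : ∀ {A B : C} (s : A ⟶ B), W s → IsIso (L.map s) :=
    fun s hs => Localization.inverts L W s hs
  have hex : ∀ (V : C) (φ : L.obj V ⟶ L.obj T) (φ' : L.obj V ⟶ L.obj X),
      φ ≫ L.map g = φ' ≫ L.map f →
      ∃ u : L.obj V ⟶ L.obj Y, u ≫ L.map q = φ ∧ u ≫ L.map r = φ' := by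
    intro V φ φ' h
    obtain ⟨V₁, s, hs, a, b, ha, hb⟩ := exists_common L W φ φ'
    have hab : L.map (a ≫ g) = L.map (b ≫ f) := by
      rw [L.map_comp, L.map_comp, ← ha, ← hb, Category.assoc, Category.assoc, h]
    obtain ⟨V₂, t, ht, htab⟩ := (MorphismProperty.map_eq_iff_precomp L W _ _).mp hab
    obtain ⟨V₃, s', hs', c, hcq, hcr⟩ := hlift V₂ (t ≫ a) (t ≫ b)
      (by rw [Category.assoc, Category.assoc, htab])
    have hm : W (s' ≫ t ≫ s) := W.comp_mem _ _ hs' (W.comp_mem _ _ ht hs)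
    have := hiso _ hm
    refine ⟨inv (L.map (s' ≫ t ≫ s)) ≫ L.map c, ?_, ?_⟩
    · rw [Category.assoc, IsIso.inv_comp_eq, ← L.map_comp, hcq]
      simp only [L.map_comp, Category.assoc, ha]
    · rw [Category.assoc, IsIso.inv_comp_eq, ← L.map_comp, hcr]
      simp only [L.map_comp, Category.assoc, hb]
  have hun : ∀ (V : C) (c c' : L.obj V ⟶ L.obj Y), c ≫ L.map q = c' ≫ L.map q →
      c ≫ L.map r = c' ≫ L.map r → c = c' := by
    intro V c c' h₁ h₂
    obtain ⟨V₁, s, hs, a, b, ha, hb⟩ := exists_common L W c c'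
    have hq : L.map (a ≫ q) = L.map (b ≫ q) := by
      rw [L.map_comp, L.map_comp, ← ha, ← hb, Category.assoc, Category.assoc, h₁]
    have hr : L.map (a ≫ r) = L.map (b ≫ r) := by
      rw [L.map_comp, L.map_comp, ← ha, ← hb, Category.assoc, Category.assoc, h₂]
    obtain ⟨V₂, t, ht, e₁⟩ := (MorphismProperty.map_eq_iff_precomp L W _ _).mp hq
    have hr' : L.map ((t ≫ a) ≫ r) = L.map ((t ≫ b) ≫ r) := by
      simp only [L.map_comp, Category.assoc] at hr ⊢
      rw [hr]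
    obtain ⟨V₃, t', ht', e₂⟩ := (MorphismProperty.map_eq_iff_precomp L W _ _).mp hr'
    have e : t' ≫ t ≫ a = t' ≫ t ≫ b := by
      refine huniq _ _ _ ?_ ?_
      · simp only [Category.assoc, e₁]
      · simpa only [Category.assoc] using e₂
    have := hiso _ (W.comp_mem _ _ ht' (W.comp_mem _ _ ht hs))
    rw [← cancel_epi (L.map (t' ≫ t ≫ s))]
    simp only [L.map_comp, Category.assoc, ha, hb]
    rw [← L.map_comp, ← L.map_comp, ← L.map_comp, ← L.map_comp, e]
  have := Localization.essSurj L W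
  refine ⟨⟨by rw [← L.map_comp, ← L.map_comp, w]⟩, ⟨PullbackCone.IsLimit.mk _ (fun s => ?_)
    (fun s => ?_) (fun s => ?_) fun s m h₁ h₂ => ?_⟩⟩
  · exact (L.objObjPreimageIso s.pt).inv ≫ (hex _ ((L.objObjPreimageIso s.pt).hom ≫ s.fst)
      ((L.objObjPreimageIso s.pt).hom ≫ s.snd)
      (by rw [Category.assoc, Category.assoc, s.condition])).choose
  · rw [Category.assoc, Iso.inv_comp_eq]
    exact (hex _ ((L.objObjPreimageIso s.pt).hom ≫ s.fst)
      ((L.objObjPreimageIso s.pt).hom ≫ s.snd)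
      (by rw [Category.assoc, Category.assoc, s.condition])).choose_spec.1
  · rw [Category.assoc, Iso.inv_comp_eq]
    exact (hex _ ((L.objObjPreimageIso s.pt).hom ≫ s.fst)
      ((L.objObjPreimageIso s.pt).hom ≫ s.snd)
      (by rw [Category.assoc, Category.assoc, s.condition])).choose_spec.2
  · refine (Iso.eq_inv_comp _).mpr ?_
    have spec := (hex _ ((L.objObjPreimageIso s.pt).hom ≫ s.fst)
      ((L.objObjPreimageIso s.pt).hom ≫ s.snd)
      (by rw [Category.assoc, Category.assoc, s.condition])).choose_spec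
    refine hun _ _ _ ?_ ?_
    · rw [Category.assoc, spec.1, h₁]
    · rw [Category.assoc, spec.2, h₂]

end Groth.Agent.Lib.ModPair
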