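import Groth.Agent.Lib.ModPair.Coprod
import Groth.Agent.Lib.ModPair.RightLoc

/-!
# Coproducts in the localization at admissible blow-ups
-/

universe u

open CategoryTheory CategoryTheory.Limits AlgebraicGeometry TopologicalSpace Opposite
open Groth.Agent.Lib.Ideal

namespace Groth.Agent.Lib.ModPair

open _root_.ModPair (Pair)

variable {σ : Type u}

/-- The inclusion of a summand. -/
noncomputable def sigmaInj (P : σ → Pair.{u}) (a : σ) : P a ⟶ sigmaPair P := (sigmaCofan P).inj a

/-- The map out of a coproduct of modulus pairs. -/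
noncomputable def sigmaDesc {P : σ → Pair.{u}} {Z : Pair.{u}} (k : ∀ a, P a ⟶ Z) : sigmaPair P ⟶ Z :=
  Cofan.IsColimit.desc (isColimitSigmaCofan P) k

@[reassoc]
theorem sigmaInj_desc {P : σ → Pair.{u}} {Z : Pair.{u}} (k : ∀ a, P a ⟶ Z) (a : σ) :
    sigmaInj P a ≫ sigmaDesc k = k a :=
  Cofan.IsColimit.fac (isColimitSigmaCofan P) k a

theorem sigma_hom_ext {P : σ → Pair.{u}} {Z : Pair.{u}} {f g : sigmaPair P ⟶ Z}
    (h : ∀ a, sigmaInj P a ≫ f = sigmaInj P a ≫ g) : f = g :=
  Cofan.IsColimit.hom_ext (isColimitSigmaCofan P) _ _ h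

instance isOpenImmersion_sigmaInj (P : σ → Pair.{u}) (a : σ) : IsOpenImmersion (sigmaInj P a).hom :=
  inferInstanceAs (IsOpenImmersion (Sigma.ι (fun a => (P a).total) a))

theorem sigmaInj_cover (P : σ → Pair.{u}) (x : (sigmaPair P).total) :
    ∃ a, x ∈ Set.range (sigmaInj P a).hom := sigma_cover (fun a => (P a).total) x

theorem isAdmBlowup_sigmaMap (P' P : σ → Pair.{u}) (s : ∀ a, P' a ⟶ P a)
    (hs : ∀ a, Pair.admBlowup (s a)) :
    Pair.admBlowup (sigmaDesc fun a => s a ≫ sigmaInj P a) := by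
  set f := sigmaDesc fun a => s a ≫ sigmaInj P a
  let T' := fun a => (P' a).total
  let T := fun a => (P a).total
  have hf : ∀ a, Sigma.ι T' a ≫ f.hom = (s a).hom ≫ Sigma.ι T a := fun a =>
    congrArg Pair.Hom.hom (sigmaInj_desc (fun a => s a ≫ sigmaInj P a) a)
  refine isAdmBlowup_of_cover (fun a => (sigmaInj P a).hom) (sigmaInj_cover P)
    (fun a => (sigmaInj P' a).hom) (fun a => (s a).hom) hf
    (fun a z hz => ?_) fun a => ?_
  · obtain ⟨b, y, rfl⟩ := sigma_cover T' z
    obtain ⟨t, ht⟩ := hz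
    have ht' : Sigma.ι T a t = Sigma.ι T b ((s b).hom y) :=
      ht.trans (congr($(hf b) y) : (Sigma.ι T' b ≫ f.hom) y = ((s b).hom ≫ Sigma.ι T b) y)
    obtain ⟨rfl, -⟩ := Sigma.mk.inj ((sigmaι_eq_iff _ _ _ _ _).1 ht')
    exact ⟨y, rfl⟩
  · show _root_.ModPair.IsAdmBlowup ((sigmaPair P').mod.comap (Sigma.ι T' a))
      ((sigmaPair P).mod.comap (Sigma.ι T a)) (s a).hom
    rw [sigmaPair_mod, sigmaPair_mod]
    exact hs a

/-- The localization functor carries coproducts of modulus pairs to coproducts. -/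
theorem isColimit_map_sigmaCofan (P : σ → Pair.{u}) :
    Nonempty (IsColimit (Cofan.mk (Pair.admBlowup.{u}.Q.obj (sigmaPair P))
      fun a => Pair.admBlowup.{u}.Q.map (sigmaInj P a))) := by
  let L := Pair.admBlowup.{u}.Q
  have hess := Localization.essSurj L Pair.admBlowup
  have hexists : ∀ (Y : Pair.admBlowup.{u}.Localization) (φ : ∀ a, L.obj (P a) ⟶ Y),
      ∃ h : L.obj (sigmaPair P) ⟶ Y, ∀ a, L.map (sigmaInj P a) ≫ h = φ a := by
    intro Y φ
    let e := L.objObjPreimageIso Y
    choose P' s hs c hc using fun a => exists_map_comp_eq L Pair.admBlowup (φ a ≫ e.inv)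
    let sm : sigmaPair P' ⟶ sigmaPair P := sigmaDesc fun a => s a ≫ sigmaInj P a
    have : IsIso (L.map sm) :=
      Localization.inverts L Pair.admBlowup sm (isAdmBlowup_sigmaMap P' P s hs)
    let cm : sigmaPair P' ⟶ L.objPreimage Y := sigmaDesc c
    refine ⟨inv (L.map sm) ≫ L.map cm ≫ e.hom, fun a => ?_⟩
    have : IsIso (L.map (s a)) := Localization.inverts L Pair.admBlowup (s a) (hs a)
    rw [← cancel_epi (L.map (s a)), ← L.map_comp_assoc,
      ← sigmaInj_desc (fun a => s a ≫ sigmaInj P a) a,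
      L.map_comp_assoc, IsIso.hom_inv_id_assoc, ← L.map_comp_assoc,
      sigmaInj_desc c a, ← hc a]
    simp
  have huniq : ∀ (Y : Pair.admBlowup.{u}.Localization) (h h' : L.obj (sigmaPair P) ⟶ Y),
      (∀ a, L.map (sigmaInj P a) ≫ h = L.map (sigmaInj P a) ≫ h') → h = h' := by
    intro Y h h' hh
    let e := L.objObjPreimageIso Y
    rw [← cancel_mono e.inv]
    obtain ⟨V, t, ht, c, d, hc, hd⟩ := exists_common L Pair.admBlowup (h ≫ e.inv) (h' ≫ e.inv)
    have : IsIso (L.map t) := Localization.inverts L Pair.admBlowup t ht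
    rw [← cancel_epi (L.map t), hc, hd]
    let T := fun a => (P a).total
    let O : σ → V.total.Opens := fun a => t.hom ⁻¹ᵁ (Sigma.ι T a).opensRange
    let V' : σ → Pair.{u} := fun a => ⟨O a, V.mod.comap (O a).ι,
      EffCartier.isEffCartier_comap_of_flat _ V.isEffCartier⟩
    let v : ∀ a, V' a ⟶ V := fun a => ⟨(O a).ι, le_rfl⟩
    have hr : ∀ a, Set.range ((O a).ι ≫ t.hom) ⊆ Set.range (Sigma.ι T a) := by
      rintro a _ ⟨x, rfl⟩; exact x.2
    let th : ∀ a, (O a : Scheme.{u}) ⟶ T a := fun a => IsOpenImmersion.lift (Sigma.ι T a) _ (hr a)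
    have hth : ∀ a, th a ≫ Sigma.ι T a = (O a).ι ≫ t.hom := fun a => IsOpenImmersion.lift_fac _ _ _
    have hmin : ∀ a, (V' a).mod = (P a).mod.comap (th a) := fun a => by
      show V.mod.comap (O a).ι = _
      refine Eq.trans ?_ (congrArg (fun M : (T a).IdealSheafData => M.comap (th a)) (sigmaPair_mod P a))
      refine Eq.trans ?_ (Scheme.IdealSheafData.comap_comp (sigmaPair P).mod (th a) _)
      rw [ht.1, ← Scheme.IdealSheafData.comap_comp]
      exact congrArg (fun m => (sigmaPair P).mod.comap m) (hth a).symm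
    let t' : ∀ a, V' a ⟶ P a := fun a => ⟨th a, (hmin a).le⟩
    have ht' : ∀ a, Pair.admBlowup (t' a) := fun a => by
      have hp : IsPullback (O a).ι (th a) t.hom (Sigma.ι T a) :=
        (IsOpenImmersion.isPullback (th a) (O a).ι (Sigma.ι T a) t.hom (hth a).symm
          (Scheme.Opens.opensRange_ι _).symm).flip
      have := ht.2.2
      refine ⟨hmin a, MorphismProperty.of_isPullback (P := @IsProper) hp ht.2.1,
        isIso_restrict_of_isPullback hp (_root_.ModPair.interior (sigmaPair P).mod) ?_⟩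
      exact le_of_eq ((congrArg _root_.ModPair.interior (sigmaPair_mod P a)).symm.trans (interior_comap _ _))
    have hsq : ∀ a, t' a ≫ sigmaInj P a = v a ≫ t := fun a => Pair.Hom.ext (hth a)
    have hcd : ∀ a, L.map (v a ≫ c) = L.map (v a ≫ d) := fun a => by
      have h1 := congrArg (fun r => L.map (t' a) ≫ r ≫ e.inv) (hh a)
      simp only [Category.assoc, ← L.map_comp_assoc] at h1
      rw [hsq, L.map_comp_assoc, L.map_comp_assoc] at h1
      rw [L.map_comp, L.map_comp, ← hc, ← hd]
      exact h1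
    choose W u hu hue using fun a =>
      (MorphismProperty.map_eq_iff_precomp L Pair.admBlowup _ _).1 (hcd a)
    let um : sigmaPair W ⟶ V := sigmaDesc fun a => u a ≫ v a
    have hum : Pair.admBlowup um := by
      have hf : ∀ a, Sigma.ι (fun a => (W a).total) a ≫ um.hom = (u a).hom ≫ (O a).ι := fun a =>
        congrArg Pair.Hom.hom (sigmaInj_desc (fun a => u a ≫ v a) a)
      refine isAdmBlowup_of_cover (fun a => (O a).ι) (fun x => ?_)
        (fun a => (sigmaInj W a).hom) (fun a => (u a).hom) hf (fun a z hz => ?_) fun a => ?_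
      · obtain ⟨a, ha⟩ := sigma_cover T (t.hom x)
        exact ⟨a, by rw [Scheme.Opens.range_ι]; exact ha⟩
      · obtain ⟨b, y, rfl⟩ := sigma_cover (fun a => (W a).total) z
        obtain ⟨x, hx⟩ := hz
        replace hx : (O a).ι x = (O b).ι ((u b).hom y) := hx.trans
          (congr($(hf b) y) : (Sigma.ι (fun a => (W a).total) b ≫ um.hom) y =
            ((u b).hom ≫ (O b).ι) y)
        obtain ⟨p, hp⟩ := x.2
        obtain ⟨q, hq⟩ := ((u b).hom y).2
        obtain ⟨rfl, -⟩ := Sigma.mk.inj ((sigmaι_eq_iff _ _ _ _ _).1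
          (hp.trans ((congrArg t.hom hx).trans hq.symm)))
        exact ⟨y, rfl⟩
      · show _root_.ModPair.IsAdmBlowup ((sigmaPair W).mod.comap (Sigma.ι _ a))
          (V.mod.comap (O a).ι) (u a).hom
        rw [sigmaPair_mod]
        exact hu a
    have : IsIso (L.map um) := Localization.inverts L Pair.admBlowup um hum
    rw [← cancel_epi (L.map um), ← L.map_comp, ← L.map_comp]
    congr 1
    refine sigma_hom_ext fun a => ?_
    rw [← Category.assoc, ← Category.assoc,
      sigmaInj_desc (fun a => u a ≫ v a) a, Category.assoc,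
      Category.assoc, hue a]
  choose F hF using hexists
  exact ⟨Cofan.IsColimit.mk _ (fun c => F c.pt c.inj) (fun c a => hF c.pt c.inj a)
    fun c m hm => huniq c.pt m _ fun a => (hm a).trans (hF c.pt c.inj a).symm⟩

theorem preservesColimitsOfShape_Q :
    PreservesColimitsOfShape (Discrete σ) Pair.admBlowup.{u}.Q := by
  refine ⟨fun {K} => ?_⟩
  have : PreservesColimit (Discrete.functor (K.obj ∘ Discrete.mk)) Pair.admBlowup.{u}.Q :=
    preservesColimit_of_preserves_colimit_cocone (isColimitSigmaCofan (K.obj ∘ Discrete.mk))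
      ((isColimitMapCoconeCofanMkEquiv _ _ _).symm (isColimit_map_sigmaCofan _).some)
  exact preservesColimit_of_iso_diagram _ (Discrete.natIsoFunctor (F := K)).symm

theorem hasColimitsOfShape_localization :
    HasColimitsOfShape (Discrete σ) Pair.admBlowup.{u}.Localization := by
  let L := Pair.admBlowup.{u}.Q
  have := Localization.essSurj L Pair.admBlowup
  refine ⟨fun K => ?_⟩
  let P : σ → Pair.{u} := fun a => L.objPreimage (K.obj ⟨a⟩)
  have : HasColimit (Discrete.functor fun a => L.obj (P a)) :=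
    HasColimit.mk ⟨_, (isColimit_map_sigmaCofan P).some⟩
  exact hasColimit_of_iso (Discrete.natIso (fun a => (L.objObjPreimageIso (K.obj a)).symm) :
    K ≅ Discrete.functor fun a => L.obj (P a))

end Groth.Agent.Lib.ModPair
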