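import Groth.Agent.Lib.ModPair.AmbProd
import Groth.Agent.Lib.ModPair.Category
import Groth.Agent.Lib.ModPair.RightLoc
import Groth.Agent.Lib.BlowUpExists.Proper
import Mathlib.CategoryTheory.Limits.Constructions.LimitsOfProductsAndEqualizers

/-!
# Fibre products in the localization at admissible blow-ups
-/

universe u

open CategoryTheory CategoryTheory.Limits AlgebraicGeometry TopologicalSpace Opposite
open Groth.Agent.Lib.Ideal

namespace Groth.Agent.Lib.ModPair

open _root_.ModPair (Pair)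

theorem fg_sup {X : Scheme.{u}} {A B : X.IdealSheafData} (hA : BlowUp.IsEffCartierIdeal A)
    (hB : BlowUp.IsEffCartierIdeal B) (U : X.affineOpens) : ((A ⊔ B).ideal U).FG := by
  rw [Scheme.IdealSheafData.ideal_sup, Pi.sup_apply]
  exact Submodule.FG.sup (RelDiv.Diff.fg_of_isEffCartier hA U) (RelDiv.Diff.fg_of_isEffCartier hB U)

section
variable {S T X Y : Scheme.{u}} {f : X ⟶ S} {g : T ⟶ S} {I : X.IdealSheafData}
  {J : T.IdealSheafData} {π : Y ⟶ _root_.ModPair.mprod f g I J} {K : Y.IdealSheafData}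

theorem fg_prodCentre (hI : IsLP I) (hJ : IsLP J) (U : (_root_.ModPair.mprod f g I J).affineOpens) :
    ((_root_.ModPair.prodCentre f g I J).ideal U).FG :=
  fg_sup (effCartier_mprod_fst f g hI hJ) (effCartier_mprod_snd f g hI hJ) U

theorem isProper_of_isAmbProd (hI : IsLP I) (hJ : IsLP J)
    (hY : _root_.ModPair.IsAmbProd f g I J π K) : IsProper π :=
  BlowUpExists.isProper_of_isBlowUp hY.1 (fg_prodCentre hI hJ)

theorem isAmbient_of_isAmbProd (hI : IsLP I) (hJ : IsLP J)
    (hY : _root_.ModPair.IsAmbProd f g I J π K) :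
    BlowUp.IsEffCartierIdeal K ∧
      _root_.ModPair.IsAmbient K I (π ≫ _root_.ModPair.mprodι f g I J ≫ pullback.fst f g) ∧
      _root_.ModPair.IsAmbient K J (π ≫ _root_.ModPair.mprodι f g I J ≫ pullback.snd f g) := by
  obtain ⟨hb, hK⟩ := hY
  set A := (I.comap (_root_.ModPair.mprodι f g I J ≫ pullback.fst f g)).comap π with hA
  set B := (J.comap (_root_.ModPair.mprodι f g I J ≫ pullback.snd f g)).comap π with hB
  have hAe : BlowUp.IsEffCartierIdeal A :=
    Ideal.BlowUp.isEffCartier_comap_blowUp hb (effCartier_mprod_fst f g hI hJ)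
  have hBe : BlowUp.IsEffCartierIdeal B :=
    Ideal.BlowUp.isEffCartier_comap_blowUp hb (effCartier_mprod_snd f g hI hJ)
  set E := (_root_.ModPair.prodCentre f g I J).comap π with hE
  have hEs : E = A ⊔ B := Scheme.IdealSheafData.comap_sup ..
  have hKA : K ≤ A := by
    refine (RelDiv.Diff.mul_le_mul_left_iff hb.1).mp ?_
    rw [mul_comm (E) K, hK, mul_comm E A]
    intro U
    simp only [Scheme.IdealSheafData.ideal_mul, Pi.mul_apply]
    exact _root_.Ideal.mul_mono le_rfl ((hEs ▸ le_sup_right : B ≤ E) U)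
  have hKB : K ≤ B := by
    refine (RelDiv.Diff.mul_le_mul_left_iff hb.1).mp ?_
    rw [mul_comm (E) K, hK, mul_comm A B, mul_comm E B]
    intro U
    simp only [Scheme.IdealSheafData.ideal_mul, Pi.mul_apply]
    exact _root_.Ideal.mul_mono le_rfl ((hEs ▸ le_sup_left : A ≤ E) U)
  refine ⟨EffCartier.isEffCartier_factor_left (hK ▸ EffCartier.isEffCartier_mul hAe hBe), ?_, ?_⟩
  · show K ≤ _
    rw [Scheme.IdealSheafData.comap_comp]
    exact hKA
  · show K ≤ _
    rw [Scheme.IdealSheafData.comap_comp]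
    exact hKB

theorem ext_of_isAmbProd (hY : _root_.ModPair.IsAmbProd f g I J π K) {W : Scheme.{u}}
    {IW : W.IdealSheafData} (hW : BlowUp.IsEffCartierIdeal IW) (hI : IsLP I) {c c' : W ⟶ Y}
    (hc : _root_.ModPair.IsAmbient IW I (c ≫ π ≫ _root_.ModPair.mprodι f g I J ≫ pullback.fst f g))
    (h₁ : c ≫ π ≫ _root_.ModPair.mprodι f g I J ≫ pullback.fst f g =
      c' ≫ π ≫ _root_.ModPair.mprodι f g I J ≫ pullback.fst f g)
    (h₂ : c ≫ π ≫ _root_.ModPair.mprodι f g I J ≫ pullback.snd f g =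
      c' ≫ π ≫ _root_.ModPair.mprodι f g I J ≫ pullback.snd f g) : c = c' := by
  have he : c ≫ π = c' ≫ π := by
    rw [← cancel_mono (_root_.ModPair.mprodι f g I J)]
    apply pullback.hom_ext
    · simpa only [Category.assoc] using h₁
    · simpa only [Category.assoc] using h₂
  have hE : BlowUp.IsEffCartierIdeal ((_root_.ModPair.prodCentre f g I J).comap (c ≫ π)) := by
    rw [Scheme.IdealSheafData.comap_comp]
    refine effCartier_of_le hW ((isLP_of_effCartier hY.1.1).comap c) (le_trans hc ?_)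
    rw [← Scheme.IdealSheafData.comap_comp]
    show _ ≤ (_ ⊔ _ : Scheme.IdealSheafData _).comap (c ≫ π)
    rw [Scheme.IdealSheafData.comap_sup]
    refine le_trans (le_of_eq ?_) le_sup_left
    rw [← Scheme.IdealSheafData.comap_comp, Category.assoc]
  exact (hY.1.2 W (c ≫ π) hE).unique rfl he.symm

theorem exists_lift_isAmbProd (hY : _root_.ModPair.IsAmbProd f g I J π K) (hI : IsLP I)
    (hJ : IsLP J) {W : Scheme.{u}} {IW : W.IdealSheafData} (hW : BlowUp.IsEffCartierIdeal IW)
    (a : W ⟶ X) (b : W ⟶ T) (hab : a ≫ f = b ≫ g) (ha : _root_.ModPair.IsAmbient IW I a)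
    (hb : _root_.ModPair.IsAmbient IW J b) :
    ∃ (W' : Scheme.{u}) (s : W' ⟶ W) (_ : BlowUp.IsEffCartierIdeal (IW.comap s))
      (_ : _root_.ModPair.IsAdmBlowup (IW.comap s) IW s) (h : W' ⟶ Y),
      _root_.ModPair.IsAmbient (IW.comap s) K h ∧
      h ≫ π ≫ _root_.ModPair.mprodι f g I J ≫ pullback.fst f g = s ≫ a ∧
      h ≫ π ≫ _root_.ModPair.mprodι f g I J ≫ pullback.snd f g = s ≫ b := by
  obtain ⟨c, hc⟩ := exists_lift_mprod f g hW (pullback.lift a b hab) (I := I) (J := J)
    (by rwa [pullback.lift_fst]) (by rwa [pullback.lift_snd])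
  have hca : c ≫ _root_.ModPair.mprodι f g I J ≫ pullback.fst f g = a := by
    rw [reassoc_of% hc, pullback.lift_fst]
  have hcb : c ≫ _root_.ModPair.mprodι f g I J ≫ pullback.snd f g = b := by
    rw [reassoc_of% hc, pullback.lift_snd]
  set A := (I.comap (_root_.ModPair.mprodι f g I J ≫ pullback.fst f g)).comap c
  set B := (J.comap (_root_.ModPair.mprodι f g I J ≫ pullback.snd f g)).comap c
  have hA : IW ≤ A := by
    show IW ≤ (I.comap _).comap c
    rw [← Scheme.IdealSheafData.comap_comp, hca]; exact ha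
  have hB : IW ≤ B := by
    show IW ≤ (J.comap _).comap c
    rw [← Scheme.IdealSheafData.comap_comp, hcb]; exact hb
  have hAe := effCartier_of_le hW ((hI.comap _).comap c) hA
  have hBe := effCartier_of_le hW ((hJ.comap _).comap c) hB
  set Ec := (_root_.ModPair.prodCentre f g I J).comap c
  have hEc : Ec = A ⊔ B := Scheme.IdealSheafData.comap_sup ..
  obtain ⟨W', s, hs⟩ := BlowUpExists.exists_isBlowUp W Ec
  have hW' := Ideal.BlowUp.isEffCartier_comap_blowUp hs hW
  have hsp : IsProper s :=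
    BlowUpExists.isProper_of_isBlowUp hs fun U => hEc ▸ fg_sup hAe hBe U
  have hiso : IsIso (s ∣_ _root_.ModPair.interior IW) := by
    have := Ideal.BlowUp.isIso_off_center hs
    refine isIso_restrict_of_isPullback (IsPullback.of_horiz_isIso (fst := 𝟙 W') (snd := s)
      (f := s) (g := 𝟙 W) ⟨by simp⟩) (U := Ec.support.compl) ?_
    exact interior_le (hA.trans (hEc ▸ le_sup_left : A ≤ Ec))
  obtain ⟨h, hh, -⟩ := hY.1.2 W' (s ≫ c) (by rw [Scheme.IdealSheafData.comap_comp]; exact hs.1)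
  refine ⟨W', s, hW', ⟨rfl, hsp, hiso⟩, h, ?_, ?_, ?_⟩
  · show IW.comap s ≤ K.comap h
    refine (RelDiv.Diff.mul_le_mul_left_iff hs.1).mp ?_
    have hK : (Ec.comap s) * K.comap h = A.comap s * B.comap s := by
      have e := congrArg (fun L : Y.IdealSheafData => L.comap h) hY.2
      simp only [Comap.comap_mul, ← Scheme.IdealSheafData.comap_comp, hh] at e
      rw [mul_comm]
      simp only [A, B, Ec, ← Scheme.IdealSheafData.comap_comp]
      rw [e]
      simp only [← Category.assoc, hh]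
    rw [hK, hEc, Scheme.IdealSheafData.comap_sup, Scheme.IdealSheafData.inf_mul]
    refine sup_le ?_ ?_
    · intro U
      simp only [Scheme.IdealSheafData.ideal_mul, Pi.mul_apply]
      exact _root_.Ideal.mul_mono le_rfl (Scheme.IdealSheafData.comap_mono s hB U)
    · rw [mul_comm (B.comap s)]
      intro U
      simp only [Scheme.IdealSheafData.ideal_mul, Pi.mul_apply]
      exact _root_.Ideal.mul_mono (Scheme.IdealSheafData.comap_mono s hA U) le_rfl
  · rw [reassoc_of% hh, hca]
  · rw [reassoc_of% hh, hcb]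

end

/-- The ambient product is the fibre product in the localization. -/
theorem isPullback_ambProd (P T X : Pair.{u}) (f : X ⟶ P) (g : T ⟶ P) {Y : Scheme.{u}}
    (π : Y ⟶ _root_.ModPair.mprod f.hom g.hom X.mod T.mod) (K : Y.IdealSheafData)
    (hY : _root_.ModPair.IsAmbProd f.hom g.hom X.mod T.mod π K) (hK : BlowUp.IsEffCartierIdeal K)
    (hX : _root_.ModPair.IsAmbient K X.mod
      (π ≫ _root_.ModPair.mprodι f.hom g.hom X.mod T.mod ≫ pullback.fst f.hom g.hom))
    (hT : _root_.ModPair.IsAmbient K T.mod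
      (π ≫ _root_.ModPair.mprodι f.hom g.hom X.mod T.mod ≫ pullback.snd f.hom g.hom)) :
    IsPullback
      (Pair.admBlowup.{u}.Q.map (Pair.Hom.mk (P := Pair.mk Y K hK) (Q := T) _ hT))
      (Pair.admBlowup.{u}.Q.map (Pair.Hom.mk (P := Pair.mk Y K hK) (Q := X) _ hX))
      (Pair.admBlowup.{u}.Q.map g) (Pair.admBlowup.{u}.Q.map f) := by
  have hIlp := isLP_of_effCartier X.isEffCartier
  refine isPullback_map _ Pair.admBlowup (Pair.Hom.ext ?_) (fun V a b h => ?_)
    (fun V c c' h₁ h₂ => ?_)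
  · show (π ≫ _ ≫ pullback.snd f.hom g.hom) ≫ g.hom = (π ≫ _ ≫ pullback.fst f.hom g.hom) ≫ f.hom
    rw [Category.assoc, Category.assoc, Category.assoc, Category.assoc, pullback.condition]
  · obtain ⟨W', s, hs, hs', h', hh, e₁, e₂⟩ := exists_lift_isAmbProd hY hIlp
      (isLP_of_effCartier T.isEffCartier) V.isEffCartier b.hom a.hom
      (congrArg Pair.Hom.hom h).symm b.cond a.cond
    exact ⟨⟨W', _, hs⟩, ⟨s, le_of_eq hs'.1⟩, hs', ⟨h', hh⟩, Pair.Hom.ext e₂, Pair.Hom.ext e₁⟩
  · have e₁ := congrArg Pair.Hom.hom h₁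
    have e₂ := congrArg Pair.Hom.hom h₂
    have hc : _root_.ModPair.IsAmbient V.mod X.mod (c.hom ≫ π ≫
        _root_.ModPair.mprodι f.hom g.hom X.mod T.mod ≫ pullback.fst f.hom g.hom) := by
      show V.mod ≤ X.mod.comap _
      rw [Scheme.IdealSheafData.comap_comp]
      exact le_trans c.cond (Scheme.IdealSheafData.comap_mono c.hom hX)
    exact Pair.Hom.ext (ext_of_isAmbProd hY V.isEffCartier hIlp hc e₂ e₁)

/-- The terminal modulus pair. -/
noncomputable def terminalPair : Pair.{u} :=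
  ⟨⊤_ Scheme.{u}, ⊤, EffCartier.isEffCartier_top⟩

theorem hasTerminal_localization : HasTerminal Pair.admBlowup.{u}.Localization := by
  have hex : ∀ Z : Pair.admBlowup.{u}.Localization,
      Nonempty (Unique (Z ⟶ Pair.admBlowup.{u}.Q.obj terminalPair)) := by
    intro Z
    have := Localization.essSurj Pair.admBlowup.{u}.Q Pair.admBlowup
    let e := Pair.admBlowup.{u}.Q.objObjPreimageIso Z
    let t : Pair.admBlowup.{u}.Q.objPreimage Z ⟶ terminalPair :=
      ⟨terminal.from _, le_of_le_of_eq le_top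
        (Scheme.IdealSheafData.comap_top (terminal.from _ : _ ⟶ ⊤_ Scheme.{u})).symm⟩
    refine ⟨⟨⟨e.inv ≫ Pair.admBlowup.{u}.Q.map t⟩, fun φ => ?_⟩⟩
    show φ = e.inv ≫ Pair.admBlowup.{u}.Q.map t
    rw [Iso.eq_inv_comp]
    obtain ⟨V', s, hs, a, ha⟩ := exists_map_comp_eq Pair.admBlowup.{u}.Q Pair.admBlowup (e.hom ≫ φ)
    have : IsIso (Pair.admBlowup.{u}.Q.map s) := Localization.inverts _ Pair.admBlowup s hs
    rw [← cancel_epi (Pair.admBlowup.{u}.Q.map s), ha, ← Functor.map_comp]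
    congr 1
    exact Pair.Hom.ext (Subsingleton.elim (α := _ ⟶ ⊤_ Scheme.{u}) _ _)
  have := fun Z => (hex Z).some
  exact hasTerminal_of_unique (Pair.admBlowup.{u}.Q.obj terminalPair)

theorem hasPullbacks_localization : HasPullbacks Pair.admBlowup.{u}.Localization := by
  let L := Pair.admBlowup.{u}.Q
  have := Localization.essSurj L Pair.admBlowup
  refine @hasPullbacks_of_hasLimit_cospan _ _ (fun {X' T' P'} φ ψ => ?_)
  let eP := L.objObjPreimageIso P'
  let eX := L.objObjPreimageIso X'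
  let eT := L.objObjPreimageIso T'
  obtain ⟨X, s, hs, f, hf⟩ := exists_map_comp_eq L Pair.admBlowup (eX.hom ≫ φ ≫ eP.inv)
  obtain ⟨T, t, ht, g, hg⟩ := exists_map_comp_eq L Pair.admBlowup (eT.hom ≫ ψ ≫ eP.inv)
  obtain ⟨Y, π, K, hY⟩ := exists_isAmbProd f.hom g.hom X.mod T.mod
  obtain ⟨hK, hX, hT⟩ := isAmbient_of_isAmbProd (isLP_of_effCartier X.isEffCartier)
    (isLP_of_effCartier T.isEffCartier) hY
  have := Localization.inverts L Pair.admBlowup s hs
  have := Localization.inverts L Pair.admBlowup t ht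
  have hp := (isPullback_ambProd _ T X f g π K hY hK hX hT).flip
  have hp' := hp.of_iso (f' := φ) (g' := ψ) (fst' := _ ≫ (asIso (L.map s) ≪≫ eX).hom)
    (snd' := _ ≫ (asIso (L.map t) ≪≫ eT).hom) (Iso.refl _) (asIso (L.map s) ≪≫ eX)
    (asIso (L.map t) ≪≫ eT) eP (Category.id_comp _).symm (Category.id_comp _).symm ?_ ?_
  · exact hp'.hasPullback
  · show L.map f ≫ eP.hom = (L.map s ≫ eX.hom) ≫ φ
    rw [← hf]; simp
  · show L.map g ≫ eP.hom = (L.map t ≫ eT.hom) ≫ ψ
    rw [← hg]; simp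

theorem hasFiniteLimits_localization : HasFiniteLimits Pair.admBlowup.{u}.Localization :=
  have := hasTerminal_localization
  have := hasPullbacks_localization
  hasFiniteLimits_of_hasTerminal_and_pullbacks

end Groth.Agent.Lib.ModPair
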