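import Groth.Agent.Lib.ModPair.Basic
import Mathlib.AlgebraicGeometry.Morphisms.Proper

/-!
# The closure of the product of interiors
-/

universe u

open CategoryTheory CategoryTheory.Limits AlgebraicGeometry TopologicalSpace Opposite
open Groth.Agent.Lib.Ideal

namespace Groth.Agent.Lib.ModPair

variable {S T X : Scheme.{u}}

theorem prodInterior_eq (f : X ⟶ S) (g : T ⟶ S) (I : X.IdealSheafData) (J : T.IdealSheafData) :
    _root_.ModPair.prodInterior f g I J =
      _root_.ModPair.interior (I.comap (pullback.fst f g) * J.comap (pullback.snd f g)) := by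
  rw [interior_mul, interior_comap, interior_comap]
  rfl

theorem quasiCompact_prodInterior (f : X ⟶ S) (g : T ⟶ S) {I : X.IdealSheafData}
    {J : T.IdealSheafData} (hI : IsLP I) (hJ : IsLP J) :
    QuasiCompact (_root_.ModPair.prodInterior f g I J).ι := by
  rw [prodInterior_eq]
  exact quasiCompact_interior ((hI.comap _).mul (hJ.comap _))

/-- The first modulus on the closure of the product of interiors is effective Cartier. -/
theorem effCartier_mprod_fst (f : X ⟶ S) (g : T ⟶ S) {I : X.IdealSheafData}
    {J : T.IdealSheafData} (hI : IsLP I) (hJ : IsLP J) :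
    BlowUp.IsEffCartierIdeal (I.comap (_root_.ModPair.mprodι f g I J ≫ pullback.fst f g)) := by
  have := quasiCompact_prodInterior f g hI hJ
  rw [Scheme.IdealSheafData.comap_comp]
  refine effCartier_comap_imageι _ (hI.comap _) fun x => ?_
  rw [interior_comap]
  exact x.2.1

/-- The second modulus on the closure of the product of interiors is effective Cartier. -/
theorem effCartier_mprod_snd (f : X ⟶ S) (g : T ⟶ S) {I : X.IdealSheafData}
    {J : T.IdealSheafData} (hI : IsLP I) (hJ : IsLP J) :
    BlowUp.IsEffCartierIdeal (J.comap (_root_.ModPair.mprodι f g I J ≫ pullback.snd f g)) := by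
  have := quasiCompact_prodInterior f g hI hJ
  rw [Scheme.IdealSheafData.comap_comp]
  refine effCartier_comap_imageι _ (hJ.comap _) fun x => ?_
  rw [interior_comap]
  exact x.2.2

/-- A pair of ambient morphisms from a modulus pair factors through `mprod`. -/
theorem exists_lift_mprod {W : Scheme.{u}} (f : X ⟶ S) (g : T ⟶ S) {I : X.IdealSheafData}
    {J : T.IdealSheafData} {K : W.IdealSheafData} (hK : BlowUp.IsEffCartierIdeal K)
    (c : W ⟶ pullback f g) (hI : _root_.ModPair.IsAmbient K I (c ≫ pullback.fst f g))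
    (hJ : _root_.ModPair.IsAmbient K J (c ≫ pullback.snd f g)) :
    ∃ c' : W ⟶ _root_.ModPair.mprod f g I J, c' ≫ _root_.ModPair.mprodι f g I J = c := by
  have := std_interior hK
  set U := _root_.ModPair.prodInterior f g I J
  have hr : Set.range ((_root_.ModPair.interior K).ι ≫ c) ⊆ Set.range U.ι := by
    rw [Scheme.Opens.range_ι]
    rintro _ ⟨x, rfl⟩
    exact ⟨interior_le_of_isAmbient hI x.2, interior_le_of_isAmbient hJ x.2⟩
  have hle : U.ι.imageι.ker ≤ c.ker := by
    rw [Scheme.IdealSheafData.ker_subschemeι]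
    refine ((IsOpenImmersion.lift U.ι _ hr).le_ker_comp U.ι).trans ?_
    rw [IsOpenImmersion.lift_fac, Scheme.Hom.ker_comp, Scheme.Hom.ker_eq_bot,
      Scheme.IdealSheafData.map_bot]
  exact ⟨IsClosedImmersion.lift _ c hle, IsClosedImmersion.lift_fac _ _ _⟩

/-- Ore condition: the pullback of an admissible blow-up along an ambient morphism. -/
theorem isAdmBlowup_mprod {IS : S.IdealSheafData} {IT : T.IdealSheafData} {IX : X.IdealSheafData}
    (hS : BlowUp.IsEffCartierIdeal IS) (hT : BlowUp.IsEffCartierIdeal IT) (g : T ⟶ S)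
    (hg : _root_.ModPair.IsAmbient IT IS g) (s : X ⟶ S)
    (hs : _root_.ModPair.IsAdmBlowup IX IS s) :
    BlowUp.IsEffCartierIdeal (IT.comap (_root_.ModPair.mprodι s g IX IT ≫ pullback.snd s g)) ∧
      _root_.ModPair.IsAdmBlowup
        (IT.comap (_root_.ModPair.mprodι s g IX IT ≫ pullback.snd s g)) IT
        (_root_.ModPair.mprodι s g IX IT ≫ pullback.snd s g) ∧
      _root_.ModPair.IsAmbient (IT.comap (_root_.ModPair.mprodι s g IX IT ≫ pullback.snd s g)) IX
        (_root_.ModPair.mprodι s g IX IT ≫ pullback.fst s g) := by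
  obtain ⟨hmin, hprop, hiso⟩ := hs
  have hX : IsLP IX := hmin ▸ (isLP_of_effCartier hS).comap s
  have := quasiCompact_prodInterior s g hX (isLP_of_effCartier hT)
  have hU : pullback.snd s g ⁻¹ᵁ _root_.ModPair.interior IT =
      _root_.ModPair.prodInterior s g IX IT := by
    refine le_antisymm (fun x hx => ⟨?_, hx⟩) inf_le_right
    rw [interior_of_isMinimal hmin]
    show s (pullback.fst s g x) ∈ _root_.ModPair.interior IS
    rw [← Scheme.Hom.comp_apply, pullback.condition, Scheme.Hom.comp_apply]
    exact interior_le_of_isAmbient hg hx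
  refine ⟨effCartier_mprod_snd s g hX (isLP_of_effCartier hT), ⟨rfl, inferInstance, ?_⟩, ?_⟩
  · rw [morphismRestrict_comp]
    have h₁ : IsIso (_root_.ModPair.mprodι s g IX IT ∣_
        (pullback.snd s g ⁻¹ᵁ _root_.ModPair.interior IT)) :=
      hU ▸ isIso_imageι_restrict (_root_.ModPair.prodInterior s g IX IT)
    have h₂ : IsIso (pullback.snd s g ∣_ _root_.ModPair.interior IT) :=
      isIso_restrict_of_isPullback (IsPullback.of_hasPullback s g) _
        (interior_le_of_isAmbient hg)
    exact IsIso.comp_isIso' h₁ h₂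
  · show _ ≤ _
    rw [hmin, ← Scheme.IdealSheafData.comap_comp, Category.assoc, pullback.condition,
      ← Category.assoc, Scheme.IdealSheafData.comap_comp _ _ g]
    exact Scheme.IdealSheafData.comap_mono _ hg

end Groth.Agent.Lib.ModPair
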