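import Groth.Agent.Lib.ModPair.Basic
import Mathlib.RingTheory.Valuation.LocalSubring
import Mathlib.RingTheory.Ideal.MinimalPrime.Localization
import Mathlib.RingTheory.LocalRing.ResidueField.Ideal

/-!
# Valuative tests for effective Cartier divisors
-/

universe u

open CategoryTheory AlgebraicGeometry TopologicalSpace

namespace Groth.Agent.Lib.ModPair

/-- A valuation ring test at a prime `p` for a nonzerodivisor `f`. -/
theorem exists_valuation_test {A : Type u} [CommRing A] (p : Ideal A) [p.IsPrime] {f : A}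
    (hf : f ∈ nonZeroDivisors A) :
    ∃ (R : Type u) (_ : CommRing R) (_ : IsDomain R) (_ : ValuationRing R) (φ : A →+* R),
      φ f ≠ 0 ∧ (∀ a ∈ p, ¬ IsUnit (φ a)) ∧ ∀ P : Ideal R, P.IsPrime → P ≠ ⊥ → φ f ∈ P := by
  by_cases hfp : f ∈ p
  swap
  · refine ⟨p.ResidueField, inferInstance, inferInstance, inferInstance,
      algebraMap A p.ResidueField, fun h => hfp (Ideal.algebraMap_residueField_eq_zero.1 h),
      fun a ha => ?_, fun P hP h => ?_⟩
    · rw [Ideal.algebraMap_residueField_eq_zero.2 ha]; exact not_isUnit_zero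
    · exact absurd ((Ideal.eq_bot_or_top P).resolve_right hP.ne_top) h
  obtain ⟨q, hq, hqp⟩ := Ideal.exists_minimalPrimes_le (bot_le : (⊥ : Ideal A) ≤ p)
  have := hq.1.1
  have hfq : f ∉ q := fun h => notMem_nonZeroDivisors_of_mem_mem_minimalPrimes h hq hf
  let K := FractionRing (A ⧸ q)
  let g : A →+* K := (algebraMap (A ⧸ q) K).comp (Ideal.Quotient.mk q)
  have hg : ∀ a, g a = 0 ↔ a ∈ q := fun a =>
    (map_eq_zero_iff (algebraMap (A ⧸ q) K) (IsFractionRing.injective _ _)).trans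
      Ideal.Quotient.eq_zero_iff_mem
  let gl : Localization.AtPrime p →+* K :=
    IsLocalization.lift (M := p.primeCompl) (g := g)
      fun y => isUnit_iff_ne_zero.2 fun h => y.2 (hqp ((hg y).1 h))
  obtain ⟨V, hV, hloc⟩ := IsLocalRing.exists_factor_valuationRing gl
  let ψ : A →+* V := (gl.codRestrict V.toSubring hV).comp (algebraMap A _)
  have hψ : ∀ a, (ψ a : K) = g a := fun a => IsLocalization.lift_eq _ a
  have hψf : ψ f ≠ 0 := fun h => hfq ((hg f).1 (by rw [← hψ, h]; rfl))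
  have hψp : ∀ a ∈ p, ¬ IsUnit (ψ a) := fun a ha h =>
    ((IsLocalization.AtPrime.isUnit_to_map_iff _ p a).1 (hloc.map_nonunit _ h)) ha
  have hnu := hψp f hfp
  let P : Ideal V := ⨅ n : ℕ, Ideal.span {ψ f ^ n}
  have hdisj : ∀ n : ℕ, ψ f ^ n ∉ P := fun n h => by
    have h' := Ideal.mem_span_singleton.1 (Ideal.mem_iInf.1 h (n + 1))
    rw [pow_succ] at h'
    obtain ⟨c, hc⟩ := h'
    refine hnu (IsUnit.of_mul_eq_one c (mul_left_cancel₀ (pow_ne_zero n hψf) ?_))
    rw [mul_one, ← mul_assoc]; exact hc.symm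
  have hmax : ∀ a : V, a ∉ P → ∃ n : ℕ, a ∣ ψ f ^ n := fun a ha => by
    obtain ⟨n, hn⟩ := not_forall.1 fun h => ha (Ideal.mem_iInf.2 h)
    exact ⟨n, (ValuationRing.dvd_total a _).resolve_right fun h => hn (Ideal.mem_span_singleton.2 h)⟩
  have hP : P.IsPrime := by
    refine ⟨(Ideal.ne_top_iff_one _).2 (by simpa using hdisj 0), fun {a b} hab => ?_⟩
    by_contra hcon
    rw [not_or] at hcon
    obtain ⟨n, hn⟩ := hmax a hcon.1
    obtain ⟨m, hm⟩ := hmax b hcon.2
    refine hdisj (n + m) (Ideal.mem_of_dvd _ ?_ hab)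
    rw [pow_add]; exact mul_dvd_mul hn hm
  let π := Ideal.Quotient.mk P
  have hR : ValuationRing (V ⧸ P) := Function.Surjective.valuationRing π Ideal.Quotient.mk_surjective
  refine ⟨V ⧸ P, inferInstance, inferInstance, hR, π.comp ψ,
    fun h => hdisj 1 (by rw [pow_one]; exact Ideal.Quotient.eq_zero_iff_mem.1 h),
    fun a ha h => ?_, fun Q hQ hQ0 => ?_⟩
  · have : IsLocalHom π := .of_surjective π Ideal.Quotient.mk_surjective
    exact hψp a ha (this.map_nonunit _ h)
  · by_contra hcon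
    refine hQ0 (eq_bot_iff.2 fun x hx => ?_)
    obtain ⟨a, rfl⟩ := Ideal.Quotient.mk_surjective x
    by_contra ha
    obtain ⟨n, hn⟩ := hmax a fun h => ha (Ideal.Quotient.eq_zero_iff_mem.2 h)
    exact hcon (hQ.mem_of_pow_mem n (by
      rw [RingHom.comp_apply, ← map_pow]; exact Ideal.mem_of_dvd _ (map_dvd π hn) hx))

/-- The inverse image ideal along a morphism from an affine scheme into an affine open. -/
theorem comap_spec_ideal {X : Scheme.{u}} (U : X.affineOpens) {R : CommRingCat.{u}}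
    (φ : Γ(X, U.1) ⟶ R) (J : X.IdealSheafData) :
    (J.comap (Spec.map φ ≫ U.2.fromSpec)).ideal ⟨⊤, isAffineOpen_top _⟩ =
      Ideal.map (φ ≫ (Scheme.ΓSpecIso R).inv).hom (J.ideal U) := by
  rw [Scheme.IdealSheafData.comap_comp, Ideal.Comap.ideal_comap_top,
    Ideal.Comap.ideal_comap U.2.fromSpec J U ⟨⊤, isAffineOpen_top _⟩
      (by rw [U.2.fromSpec_preimage_self]), _root_.Ideal.map_map, ← CommRingCat.hom_comp]
  congr 2
  rw [Scheme.Hom.appLE, U.2.fromSpec_app_self]
  simp only [Category.assoc, ← Functor.map_comp_assoc]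
  rw [Subsingleton.elim (_ ≫ _) (𝟙 _), CategoryTheory.Functor.map_id, Category.id_comp,
    Scheme.ΓSpecIso_inv_naturality]

theorem effCartier_of_span {R : CommRingCat.{u}} [IsDomain R] {J : (Spec R).IdealSheafData}
    {r : R} (hr : r ≠ 0)
    (h : J.ideal ⟨⊤, isAffineOpen_top _⟩ = _root_.Ideal.span {(Scheme.ΓSpecIso R).inv.hom r}) :
    BlowUp.IsEffCartierIdeal J := by
  intro x
  refine ⟨⟨⊤, isAffineOpen_top _⟩, trivial, _, ?_, h⟩
  exact map_mem_nonZeroDivisors _ (Scheme.ΓSpecIso R).commRingCatIsoToRingEquiv.symm.injective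
    (mem_nonZeroDivisors_of_ne_zero hr)

theorem mem_interior_spec {R : CommRingCat.{u}} {J : (Spec R).IdealSheafData} {r : R}
    (h : J.ideal ⟨⊤, isAffineOpen_top _⟩ = _root_.Ideal.span {(Scheme.ΓSpecIso R).inv.hom r})
    (x : Spec R) : x ∈ _root_.ModPair.interior J ↔ r ∉ x.asIdeal := by
  rw [mem_interior, Scheme.IdealSheafData.mem_support_iff_of_mem
    (U := ⟨⊤, isAffineOpen_top _⟩) (by trivial), h, Scheme.zeroLocus_span, Scheme.zeroLocus_singleton]
  simp; exact PrimeSpectrum.mem_basicOpen _ _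

end Groth.Agent.Lib.ModPair
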